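import Groth.Agent.CAlgH3.PowerSeriesDVR
import Groth.Agent.CAlgH.EtaleApprox
import Groth.Agent.S0549
import Mathlib

/-!
# The completion of a wedge of discrete valuation rings
-/

set_option autoImplicit false
set_option linter.style.haveILetI false
set_option maxHeartbeats 1000000

universe u

open IsLocalRing

namespace Groth.Agent.Multicross24

variable {k : Type u} [Field k]

/-- A power series is determined modulo all powers of the variable. -/
theorem eq_of_X_pow_dvd {f g : PowerSeries k} (h : ∀ N : ℕ, PowerSeries.X ^ N ∣ f - g) : f = g := by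
  ext j
  have := PowerSeries.X_pow_dvd_iff.1 (h (j + 1)) j (Nat.lt_succ_self j)
  rwa [map_sub, sub_eq_zero] at this

/-- A map to power series taking `m^N` to `(X^N)` extends to the completion. -/
theorem exists_extend (A : Type u) [CommRing A] [IsLocalRing A] (g : A →+* PowerSeries k)
    (hg : ∀ (N : ℕ), ∀ a ∈ maximalIdeal A ^ N, PowerSeries.X ^ N ∣ g a) :
    ∃ φ : AdicCompletion (maximalIdeal A) A →+* PowerSeries k,
      ∀ (y : AdicCompletion (maximalIdeal A) A) (N : ℕ) (a : A),
        AdicCompletion.evalₐ (maximalIdeal A) N y = Ideal.Quotient.mk _ a → PowerSeries.X ^ N ∣ φ y - g a := by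
  classical
  choose r hr using fun (y : AdicCompletion (maximalIdeal A) A) (N : ℕ) =>
    Ideal.Quotient.mk_surjective (AdicCompletion.evalₐ (maximalIdeal A) N y)
  let φ : AdicCompletion (maximalIdeal A) A → PowerSeries k :=
    fun y => PowerSeries.mk fun j => PowerSeries.coeff j (g (r y (j + 1)))
  have hφ : ∀ (y : AdicCompletion (maximalIdeal A) A) (N : ℕ) (a : A),
      AdicCompletion.evalₐ (maximalIdeal A) N y = Ideal.Quotient.mk _ a → PowerSeries.X ^ N ∣ φ y - g a := by
    intro y N a ha
    refine PowerSeries.X_pow_dvd_iff.2 fun j hj => ?_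
    have hle : j + 1 ≤ N := hj
    have h1 : r y (j + 1) - a ∈ maximalIdeal A ^ (j + 1) := by
      have hr' := hr y (j + 1)
      induction y using AdicCompletion.induction_on with
      | _ t =>
        rw [AdicCompletion.evalₐ_mk, Ideal.Quotient.eq] at hr' ha
        have h1 := t.2 hle
        rw [SModEq.sub_mem, smul_eq_mul, Ideal.mul_top] at h1
        have e : r (AdicCompletion.mk (maximalIdeal A) A t) (j + 1) - a =
            (r (AdicCompletion.mk (maximalIdeal A) A t) (j + 1) - t.1 (j + 1)) + (t.1 (j + 1) - t.1 N) + (t.1 N - a) := by ring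
        rw [e]
        exact add_mem (add_mem hr' h1) (Ideal.pow_le_pow_right hle ha)
    have h2 := PowerSeries.X_pow_dvd_iff.1 (hg _ _ h1) j (Nat.lt_succ_self j)
    rw [map_sub g, map_sub] at h2
    rw [map_sub, PowerSeries.coeff_mk]
    exact h2
  have huniq : ∀ (y : AdicCompletion (maximalIdeal A) A) (f : PowerSeries k),
      (∀ N, ∃ a, AdicCompletion.evalₐ (maximalIdeal A) N y = Ideal.Quotient.mk _ a ∧
        PowerSeries.X ^ N ∣ f - g a) → φ y = f := by
    intro y f h
    refine eq_of_X_pow_dvd fun N => ?_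
    obtain ⟨a, ha, hf⟩ := h N
    have := dvd_sub (hφ y N a ha) hf
    rwa [sub_sub_sub_cancel_right] at this
  refine ⟨{ toFun := φ, map_one' := ?_, map_mul' := ?_, map_zero' := ?_, map_add' := ?_ }, hφ⟩
  · exact huniq 1 1 fun N => ⟨1, by rw [map_one, map_one], by rw [map_one, sub_self]; exact dvd_zero _⟩
  · intro y z
    refine huniq (y * z) _ fun N => ⟨r y N * r z N, by rw [map_mul, map_mul, hr, hr], ?_⟩
    have h := dvd_add ((hφ y N _ (hr y N).symm).mul_right (φ z)) ((hφ z N _ (hr z N).symm).mul_left (g (r y N)))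
    rw [map_mul]
    convert h using 1
    ring
  · exact huniq 0 0 fun N => ⟨0, by rw [map_zero, map_zero], by rw [map_zero, sub_self]; exact dvd_zero _⟩
  · intro y z
    refine huniq (y + z) _ fun N => ⟨r y N + r z N, by rw [map_add, map_add, hr, hr], ?_⟩
    have h := dvd_add (hφ y N _ (hr y N).symm) (hφ z N _ (hr z N).symm)
    rw [map_add]
    convert h using 1
    ring

/-- A unit modulo a power of a maximal ideal. -/
theorem exists_mul_sub_one_mem {B : Type u} [CommRing B] {m : Ideal B} (hm : m.IsMaximal) {s : B} (hs : s ∉ m) (N : ℕ) :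
    ∃ v, v * s - 1 ∈ m ^ N := by
  have hsup : Ideal.span {s} ⊔ m = ⊤ := hm.out.2 _ (lt_of_le_of_ne le_sup_right fun h => hs (h.ge (Ideal.mem_sup_left (Ideal.mem_span_singleton_self s))))
  have h := Ideal.sup_pow_eq_top (n := N) hsup
  obtain ⟨y, hy, z, hz, hyz⟩ := Submodule.mem_sup.1 (h.ge (Submodule.mem_top (x := (1 : B))))
  obtain ⟨v, rfl⟩ := Ideal.mem_span_singleton'.1 hy
  exact ⟨v, by rw [← hyz, sub_add_cancel_left]; exact neg_mem hz⟩

/-- Expansion at a maximal ideal with discrete valuation local ring and residue field `k`. -/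
theorem exists_expansion {B : Type u} [CommRing B] [IsNoetherianRing B] [Algebra k B] (m : Ideal B) [hm : m.IsMaximal]
    (hdvr : ∃ _ : IsDomain (Localization.AtPrime m), IsDiscreteValuationRing (Localization.AtPrime m))
    (hres : ∀ b : B, ∃ c : k, b - algebraMap k B c ∈ m) :
    ∃ χ : B →+* PowerSeries k, (∀ c : k, χ (algebraMap k B c) = algebraMap k (PowerSeries k) c) ∧
      (∀ (b : B) (N : ℕ), PowerSeries.X ^ N ∣ χ b ↔ b ∈ m ^ N) ∧
      ∀ (f : PowerSeries k) (N : ℕ), ∃ b : B, PowerSeries.X ^ N ∣ χ b - f := by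
  classical
  let L := Localization.AtPrime m
  haveI : IsNoetherianRing L := IsLocalization.isNoetherianRing m.primeCompl L inferInstance
  let D := AdicCompletion (maximalIdeal L) L
  obtain ⟨hdom, hdv⟩ := (S0549.result L).1 hdvr
  haveI : IsDomain D := hdom
  haveI : IsDiscreteValuationRing D := hdv
  haveI : IsAdicComplete (maximalIdeal D) D := CAlgH.EtaleApprox.isAdicComplete_cpl L
  let j : B →+* D := (algebraMap L D).comp (algebraMap B L)
  letI : Algebra k D := (j.comp (algebraMap k B)).toAlgebra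
  have hmL : ∀ (b : B) (N : ℕ), algebraMap B L b ∈ maximalIdeal L ^ N ↔ b ∈ m ^ N := by
    intro b N
    rw [← IsLocalization.AtPrime.map_eq_maximalIdeal m L, ← Ideal.map_pow,
      IsLocalization.algebraMap_mem_map_algebraMap_iff m.primeCompl L]
    refine ⟨fun ⟨s, hs, hsb⟩ => ?_, fun h => ⟨1, Submonoid.one_mem _, by rwa [one_mul]⟩⟩
    obtain ⟨v, hv⟩ := exists_mul_sub_one_mem hm hs N
    have : b = v * (s * b) - (v * s - 1) * b := by ring
    rw [this]
    exact sub_mem (Ideal.mul_mem_left _ _ hsb) (Ideal.mul_mem_right _ _ hv)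
  have happ : ∀ (l : L) (N : ℕ), ∃ b : B, l - algebraMap B L b ∈ maximalIdeal L ^ N := by
    intro l N
    obtain ⟨b, s, rfl⟩ := IsLocalization.exists_mk'_eq m.primeCompl l
    obtain ⟨v, hv⟩ := exists_mul_sub_one_mem hm s.2 N
    refine ⟨b * v, (Ideal.mul_unit_mem_iff_mem _ (IsLocalization.map_units L s)).1 ?_⟩
    rw [sub_mul, IsLocalization.mk'_spec, ← map_mul, ← map_sub, hmL]
    rw [show b - b * v * (s : B) = -(b * (v * s - 1)) by ring]
    exact neg_mem (Ideal.mul_mem_left _ _ hv)
  have hD : ∀ (l : L) (N : ℕ), algebraMap L D l ∈ maximalIdeal D ^ N ↔ l ∈ maximalIdeal L ^ N := by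
    intro l N
    rw [AdicCompletion.maximalIdeal_eq_map, ← Ideal.map_pow]
    have h1 : algebraMap L D l ∈ ((maximalIdeal L ^ N).map (algebraMap L D)) ↔
        algebraMap L D l ∈ (maximalIdeal L ^ N • ⊤ : Submodule L D) := by
      rw [Ideal.smul_top_eq_map]; rfl
    rw [h1, AdicCompletion.pow_smul_top_eq_ker_eval (maximalIdeal L).fg_of_isNoetherianRing, LinearMap.mem_ker]
    show Submodule.Quotient.mk l = 0 ↔ _
    rw [Submodule.Quotient.mk_eq_zero, smul_eq_mul, Ideal.mul_top]
  have hK : Function.Bijective ((residue D).comp (algebraMap k D)) := by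
    refine ⟨RingHom.injective _, fun z => ?_⟩
    obtain ⟨y, rfl⟩ := residue_surjective z
    obtain ⟨l, hl⟩ := CAlgH.EtaleApprox.exists_sub_mem L 1 y
    obtain ⟨b, hb⟩ := happ l 1
    obtain ⟨c, hc⟩ := hres b
    refine ⟨c, ?_⟩
    show residue D (algebraMap L D (algebraMap B L (algebraMap k B c))) = residue D y
    rw [← sub_eq_zero, ← map_sub, residue_eq_zero_iff, ← neg_mem_iff, neg_sub]
    have e : y - algebraMap L D (algebraMap B L (algebraMap k B c)) = (y - algebraMap L D l) +
        algebraMap L D ((l - algebraMap B L b) + algebraMap B L (b - algebraMap k B c)) := by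
      rw [map_add, map_sub, map_sub, map_sub]; ring
    rw [e, ← pow_one (maximalIdeal D)]
    exact add_mem hl ((hD _ 1).2 (add_mem hb ((hmL _ 1).2 (by rwa [pow_one]))))
  obtain ⟨x, hx⟩ := (IsPrincipalIdealRing.principal (maximalIdeal D)).1
  obtain ⟨e, heX, hbij, -⟩ := CAlgH3.exists_powerSeries_algHom k D hK x hx
  let E : PowerSeries k ≃ₐ[k] D := AlgEquiv.ofBijective e hbij
  have hXpow : ∀ (f : PowerSeries k) (N : ℕ), PowerSeries.X ^ N ∣ f ↔ E f ∈ maximalIdeal D ^ N := by
    intro f N
    rw [hx, Ideal.submodule_span_eq, Ideal.span_singleton_pow, Ideal.mem_span_singleton,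
      ← heX, show e PowerSeries.X = E PowerSeries.X from rfl, ← map_pow, map_dvd_iff]
  refine ⟨(E.symm.toRingEquiv.toRingHom).comp j, fun c => ?_, fun b N => ?_, fun f N => ?_⟩
  · exact E.symm.commutes c
  · rw [hXpow, show E (((E.symm.toRingEquiv.toRingHom).comp j) b) = j b from E.apply_symm_apply _]
    exact (hD _ N).trans (hmL b N)
  · obtain ⟨l, hl⟩ := CAlgH.EtaleApprox.exists_sub_mem L N (E f)
    obtain ⟨b, hb⟩ := happ l N
    refine ⟨b, (hXpow _ N).2 ?_⟩
    rw [map_sub, show E (((E.symm.toRingEquiv.toRingHom).comp j) b) = j b from E.apply_symm_apply _, ← neg_mem_iff,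
      neg_sub]
    have e' : E f - j b = (E f - algebraMap L D l) + algebraMap L D (l - algebraMap B L b) := by
      rw [map_sub]; show E f - algebraMap L D (algebraMap B L b) = _; ring
    rw [e']
    exact add_mem hl ((hD _ N).2 hb)

/-- **The completion of a wedge of discrete valuation rings is the multicross ring.** -/
theorem multicross (k A B : Type u) [Field k] [CommRing A] [IsLocalRing A] [IsNoetherianRing A] [CommRing B]
    [Algebra A B] [Module.Finite A B] [Algebra k A] [Algebra k B] [IsScalarTower k A B]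
    (hres : Function.Bijective (algebraMap k (ResidueField A))) (hinj : Function.Injective (algebraMap A B))
    (n : ℕ) (σ : Fin n ≃ MaximalSpectrum B) (hn : 0 < n)
    (hdvr : ∀ m : MaximalSpectrum B,
      ∃ _ : IsDomain (Localization.AtPrime m.asIdeal), IsDiscreteValuationRing (Localization.AtPrime m.asIdeal))
    (hsurj : ∀ (m : MaximalSpectrum B) (b : B), ∃ a : A, b - algebraMap A B a ∈ m.asIdeal)
    (hrange : ∀ b : B, (∃ a : A, ∀ m : MaximalSpectrum B, b - algebraMap A B a ∈ m.asIdeal) →
      b ∈ (algebraMap A B).range) :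
    ∃ φ : AdicCompletion (maximalIdeal A) A →+* (Fin n → PowerSeries k),
      Function.Injective φ ∧
      (∀ c : k, φ (algebraMap A (AdicCompletion (maximalIdeal A) A) (algebraMap k A c)) =
        fun _ => algebraMap k (PowerSeries k) c) ∧
      Set.range φ = {f : Fin n → PowerSeries k |
        ∀ i j : Fin n, PowerSeries.constantCoeff (f i) = PowerSeries.constantCoeff (f j)} := by
  classical
  haveI : IsNoetherianRing B := IsNoetherianRing.of_finite A B
  haveI : Algebra.IsIntegral A B := Algebra.IsIntegral.of_finite A B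
  have hover : ∀ i, (σ i).asIdeal.comap (algebraMap A B) = maximalIdeal A := fun i =>
    haveI := (σ i).isMaximal
    IsLocalRing.eq_maximalIdeal (Ideal.isMaximal_comap_of_isIntegral_of_isMaximal (σ i).asIdeal)
  have hck : ∀ a : A, ∃ c : k, a - algebraMap k A c ∈ maximalIdeal A := fun a => by
    obtain ⟨c, hc⟩ := hres.2 (residue A a)
    exact ⟨c, (residue_eq_zero_iff _).1 (by rw [map_sub, sub_eq_zero, ← hc]; rfl)⟩
  have hmem : ∀ (i : Fin n) (a : A), a ∈ maximalIdeal A → algebraMap A B a ∈ (σ i).asIdeal := fun i a ha =>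
    (hover i).ge ha
  choose χ hχk hχm hχs using fun i : Fin n => by
    haveI := (σ i).isMaximal
    refine exists_expansion (k := k) (σ i).asIdeal (hdvr _) fun b => ?_
    obtain ⟨a, ha⟩ := hsurj (σ i) b
    obtain ⟨c, hc⟩ := hck a
    refine ⟨c, ?_⟩
    rw [IsScalarTower.algebraMap_apply k A B]
    have := (σ i).asIdeal.add_mem ha (hmem i _ hc)
    rwa [map_sub, sub_add_sub_cancel] at this
  choose φ hφ using fun i : Fin n => exists_extend A ((χ i).comp (algebraMap A B)) fun N a ha =>
    (hχm i _ N).2 (Ideal.map_le_iff_le_comap.1 (le_of_eq_of_le (Ideal.map_pow _ _ N)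
      (Ideal.pow_right_mono (Ideal.map_le_iff_le_comap.2 (hover i).ge) N)) ha)
  let J : Ideal B := ⨅ i, (σ i).asIdeal
  have hJ0 : ∀ z ∈ J, ∃ a ∈ maximalIdeal A, algebraMap A B a = z := by
    intro z hz
    have hz' : ∀ i, z ∈ (σ i).asIdeal := Submodule.mem_iInf _ |>.1 hz
    obtain ⟨a, rfl⟩ := hrange z ⟨0, fun m => by
      obtain ⟨i, rfl⟩ := σ.surjective m
      rw [map_zero, sub_zero]; exact hz' i⟩
    exact ⟨a, (hover ⟨0, hn⟩).le (hz' _), rfl⟩
  have hJ : ∀ N : ℕ, 0 < N → ∀ z ∈ J ^ N, ∃ a ∈ maximalIdeal A ^ N, algebraMap A B a = z := by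
    intro N hN
    induction N with
    | zero => omega
    | succ N ih =>
      rcases Nat.eq_zero_or_pos N with rfl | hN'
      · simpa using hJ0
      intro z hz
      rw [pow_succ] at hz
      refine Submodule.mul_induction_on hz ?_ ?_
      · intro u hu v hv
        obtain ⟨a, ha, rfl⟩ := ih hN' u hu
        obtain ⟨a', ha', rfl⟩ := hJ0 v hv
        exact ⟨a * a', by rw [pow_succ]; exact Ideal.mul_mem_mul ha ha', map_mul _ _ _⟩
      · rintro u v ⟨a, ha, rfl⟩ ⟨a', ha', rfl⟩
        exact ⟨a + a', add_mem ha ha', map_add _ _ _⟩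
  have hcop : Pairwise fun i j => IsCoprime (σ i).asIdeal (σ j).asIdeal := fun i j hij => by
    haveI := (σ i).isMaximal
    haveI := (σ j).isMaximal
    refine Ideal.isCoprime_iff_sup_eq.2 ((σ i).isMaximal.coprime_of_ne (σ j).isMaximal fun h => hij ?_)
    exact σ.injective (MaximalSpectrum.ext h)
  have hcopN : ∀ N : ℕ, Pairwise fun i j => IsCoprime ((σ i).asIdeal ^ N) ((σ j).asIdeal ^ N) :=
    fun N i j hij => (hcop hij).pow
  have hpow : ∀ (N : ℕ), (⨅ i, (σ i).asIdeal ^ N) = J ^ N := by
    intro N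
    have h1 : ∀ (f : Fin n → Ideal B), (Pairwise fun i j => IsCoprime (f i) (f j)) → ∏ i, f i = ⨅ i, f i := by
      intro f hf
      rw [Ideal.prod_eq_iInf_of_pairwise_isCoprime (fun i _ j _ hij => hf hij)]
      simp
    show _ = (⨅ i, (σ i).asIdeal) ^ N
    rw [← h1 _ (hcopN N), ← h1 _ hcop, Finset.prod_pow]
  have hker : ∀ (N : ℕ), 0 < N → ∀ a : A, (∀ i, PowerSeries.X ^ N ∣ χ i (algebraMap A B a)) →
      a ∈ maximalIdeal A ^ N := by
    intro N hN a h
    obtain ⟨a', ha', e⟩ := hJ N hN (algebraMap A B a)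
      ((hpow N).le (Submodule.mem_iInf _ |>.2 fun i => (hχm i _ N).1 (h i)))
    exact hinj e ▸ ha'
  let Φ : AdicCompletion (maximalIdeal A) A →+* (Fin n → PowerSeries k) := RingHom.pi φ
  have hconst : ∀ (i : Fin n) (z : B) (c : k), z - algebraMap k B c ∈ (σ i).asIdeal →
      PowerSeries.constantCoeff (χ i z) = c := by
    intro i z c h
    have h1 := PowerSeries.X_pow_dvd_iff.1 ((hχm i _ 1).2 (by rwa [pow_one])) 0 Nat.zero_lt_one
    rw [map_sub, map_sub, hχk, sub_eq_zero, PowerSeries.coeff_zero_eq_constantCoeff_apply,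
      PowerSeries.coeff_zero_eq_constantCoeff_apply] at h1
    rw [h1, PowerSeries.algebraMap_apply]
    simp
  refine ⟨Φ, ?_, ?_, ?_⟩
  · rw [injective_iff_map_eq_zero]
    intro y hy
    refine AdicCompletion.ext_evalₐ fun N => ?_
    rw [map_zero]
    obtain ⟨a, ha⟩ := Ideal.Quotient.mk_surjective (AdicCompletion.evalₐ (maximalIdeal A) N y)
    rw [← ha, Ideal.Quotient.eq_zero_iff_mem]
    rcases Nat.eq_zero_or_pos N with rfl | hN
    · simp
    refine hker N hN a fun i => ?_
    have h := hφ i y N a ha.symm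
    rw [show φ i y = 0 from congrFun hy i, zero_sub, dvd_neg] at h
    exact h
  · intro c
    funext i
    refine eq_of_X_pow_dvd fun N => ?_
    have h := hφ i (algebraMap A (AdicCompletion (maximalIdeal A) A) (algebraMap k A c)) N (algebraMap k A c)
      (AdicCompletion.evalₐ_of _ _ _)
    rw [RingHom.comp_apply, ← IsScalarTower.algebraMap_apply k A B, hχk] at h
    exact h
  · refine le_antisymm ?_ ?_
    · rintro _ ⟨y, rfl⟩ i j
      obtain ⟨a, ha⟩ := Ideal.Quotient.mk_surjective (AdicCompletion.evalₐ (maximalIdeal A) 1 y)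
      obtain ⟨c, hc⟩ := hck a
      have key : ∀ l, PowerSeries.constantCoeff (φ l y) = c := fun l => by
        have h := PowerSeries.X_pow_dvd_iff.1 (hφ l y 1 a ha.symm) 0 Nat.zero_lt_one
        rw [map_sub, sub_eq_zero, PowerSeries.coeff_zero_eq_constantCoeff_apply,
          PowerSeries.coeff_zero_eq_constantCoeff_apply] at h
        rw [h]
        refine hconst l _ c ?_
        rw [IsScalarTower.algebraMap_apply k A B, ← map_sub]
        exact hmem l _ hc
      exact (key i).trans (key j).symm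
    · intro f hf
      obtain ⟨c, hc⟩ : ∃ c, ∀ i, PowerSeries.constantCoeff (f i) = c := ⟨_, fun i => hf i ⟨0, hn⟩⟩
      have happ : ∀ N : ℕ, ∃ a : A, ∀ i, PowerSeries.X ^ N ∣ χ i (algebraMap A B a) - f i := by
        intro N
        choose bb hbb using fun i => hχs i (f i) (N + 1)
        obtain ⟨b, hb⟩ := Ideal.exists_forall_sub_mem_ideal (I := fun i => (σ i).asIdeal ^ (N + 1)) (hcopN (N + 1)) bb
        have hb' : ∀ i, PowerSeries.X ^ (N + 1) ∣ χ i b - f i := fun i => by
          have h := dvd_add ((hχm i _ (N + 1)).2 (hb i)) (hbb i)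
          rwa [map_sub, sub_add_sub_cancel] at h
        obtain ⟨a, rfl⟩ := hrange b ⟨algebraMap k A c, fun m => by
          obtain ⟨i, rfl⟩ := σ.surjective m
          rw [← IsScalarTower.algebraMap_apply, ← pow_one (σ i).asIdeal, ← hχm i, map_sub, hχk,
            PowerSeries.X_pow_dvd_iff]
          intro j hj
          obtain rfl : j = 0 := by omega
          have h := PowerSeries.X_pow_dvd_iff.1 (hb' i) 0 (Nat.succ_pos N)
          rw [map_sub, sub_eq_zero] at h
          rw [map_sub, h, PowerSeries.coeff_zero_eq_constantCoeff_apply, hc, PowerSeries.algebraMap_apply]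
          simp⟩
        exact ⟨a, fun i => (pow_dvd_pow _ (Nat.le_succ N)).trans (hb' i)⟩
      choose a ha using happ
      have hcauchy : ∀ {l N : ℕ}, l ≤ N → a l ≡ a N [SMOD (maximalIdeal A ^ l • ⊤ : Submodule A A)] := by
        intro l N hlN
        rw [SModEq.sub_mem, smul_eq_mul, Ideal.mul_top]
        rcases Nat.eq_zero_or_pos l with rfl | hl
        · simp
        refine hker l hl _ fun i => ?_
        have h := dvd_sub (ha l i) ((pow_dvd_pow _ hlN).trans (ha N i))
        rwa [sub_sub_sub_cancel_right, ← map_sub, ← map_sub] at h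
      refine ⟨AdicCompletion.mk (maximalIdeal A) A ⟨a, hcauchy⟩, funext fun i => eq_of_X_pow_dvd fun N => ?_⟩
      have h := dvd_add (hφ i _ N (a N) (AdicCompletion.evalₐ_mk (maximalIdeal A) N ⟨a, hcauchy⟩)) (ha N i)
      rwa [RingHom.comp_apply, sub_add_sub_cancel] at h

end Groth.Agent.Multicross24
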