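import Groth.Agent.S7652
import Groth.Agent.S7657
import Groth.Agent.VarietyLib.NormRedLocal
import Groth.Agent.VarietyLib.DeltaBranches
import Mathlib

/-!
# Curve singularities with `δ = n - 1`
-/

set_option autoImplicit false
universe u
set_option maxHeartbeats 1000000
set_option synthInstance.maxHeartbeats 200000

namespace Groth.Agent.Multicross24

open Groth.Agent.VarietyLib IsLocalRing

theorem surjective_of_length_le_one {A : Type u} [CommRing A] {M : Type u} [AddCommGroup M] [Module A M]
    (g : A →ₗ[A] M) (hg : g 1 ≠ 0) (h : Module.length A M ≤ 1) : Function.Surjective g := by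
  have : Nontrivial M := nontrivial_of_ne _ _ hg
  have h1 : Module.length A M = 1 := le_antisymm h (Order.one_le_iff_pos.2 Module.length_pos)
  have := Module.length_eq_one_iff.1 h1
  rcases IsSimpleOrder.eq_bot_or_eq_top (LinearMap.range g) with h0 | h0
  · exact absurd ((Submodule.mem_bot A).1 (h0 ▸ LinearMap.mem_range_self g 1)) hg
  · exact LinearMap.range_eq_top.1 h0

theorem finSepDegree_eq_one (K E : Type u) [Field K] [Field E] [Algebra K E] [IsSepClosed K]
    [FiniteDimensional K E] : Field.finSepDegree K E = 1 := by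
  exact (isPurelyInseparable_iff_finSepDegree_eq_one K E).1 inferInstance

theorem exists_regular (A : Type u) [CommRing A] [IsLocalRing A] [IsNoetherianRing A] [IsReduced A]
    (hdim : ringKrullDim A = 1) : ∃ d ∈ maximalIdeal A, d ∈ nonZeroDivisors A := by
  by_contra hc
  push_neg at hc
  have hsub : (maximalIdeal A : Set A) ⊆ ⋃ q ∈ (minimalPrimes A), (q : Set A) := by
    intro x hx
    refine (Ideal.iUnion_minimalPrimes (I := (⊥ : Ideal A))).ge ?_
    have := hc x hx
    rw [mem_nonZeroDivisors_iff_right] at this
    push_neg at this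
    obtain ⟨y, hy, hy0⟩ := this
    exact ⟨y, fun h => hy0 ((nilradical_eq_zero A).le h), Ideal.le_radical (by rw [mul_comm]; exact hy)⟩
  have hfinm := minimalPrimes.finite_of_isNoetherianRing A
  obtain ⟨q, hq, hmq⟩ := (Ideal.subset_union_prime ⊥ ⊥ (f := id) (s := hfinm.toFinset) fun q hq _ _ =>
    Ideal.minimalPrimes_isPrime (hfinm.mem_toFinset.1 hq)).1 (hsub.trans (by simp))
  have : Ring.KrullDimLE 0 A := Ring.KrullDimLE.mk₀ fun I hI => by
    have hIm : I ≤ maximalIdeal A := IsLocalRing.le_maximalIdeal hI.ne_top
    have hmq' : maximalIdeal A = q := le_antisymm hmq (IsLocalRing.le_maximalIdeal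
      (Ideal.minimalPrimes_isPrime (hfinm.mem_toFinset.1 hq)).ne_top)
    have : I = maximalIdeal A := le_antisymm hIm
      (hmq'.le.trans ((hfinm.mem_toFinset.1 hq).2 ⟨hI, bot_le⟩ (hmq' ▸ hIm)))
    rw [this]; exact IsLocalRing.maximalIdeal.isMaximal A
  have h0 := Ring.krullDimLE_iff.1 this
  rw [hdim] at h0
  exact absurd h0 (by decide)

theorem hom_sub_mul {B S : Type u} [CommRing B] [CommRing S] (f : B →+* S) (a b s : B) (y : S)
    (hy : y * f s = f b) : (f a - y) * f s = f (a * s - b) := by
  rw [map_sub, map_mul, sub_mul, hy]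


/-- A curve singularity with `δ = n - 1` is a wedge: discrete valuation rings with the residue field of `A`,
and `A` consists of the congruent tuples. -/
theorem wedge (A : Type u) [CommRing A] [IsLocalRing A] [IsReduced A] (hN : CAlg.IsNagata A) (hdim : ringKrullDim A = 1)
    (heq : Curv2.deltaInv A + 1 = Brnch.numBranches A) :
    Brnch.numBranches A = ENat.card (MaximalSpectrum ↥(integralClosure A (FractionRing A))) ∧
    (∀ m' : MaximalSpectrum ↥(integralClosure A (FractionRing A)),
        ∃ _ : IsDomain (Localization.AtPrime m'.asIdeal), IsDiscreteValuationRing (Localization.AtPrime m'.asIdeal)) ∧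
    (∀ (m' : MaximalSpectrum ↥(integralClosure A (FractionRing A))) (b : ↥(integralClosure A (FractionRing A))),
        ∃ a : A, b - algebraMap A _ a ∈ m'.asIdeal) ∧
    ∀ a' : ↥(integralClosure A (FractionRing A)),
      (∃ a : A, ∀ m' : MaximalSpectrum ↥(integralClosure A (FractionRing A)),
          a' - algebraMap A _ a ∈ m'.asIdeal) →
      a' ∈ (algebraMap A ↥(integralClosure A (FractionRing A))).range := by
  classical
  have hNN : IsNoetherianRing A := hN.1
  obtain ⟨hfinB, hloc, hδ⟩ := S7652.result A hN hdim
  let B := ↥(integralClosure A (FractionRing A))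
  let R := LinearMap.range (Algebra.linearMap A B)
  have : Module.Finite A B := hfinB
  have : IsNoetherianRing B := IsNoetherianRing.of_finite A B
  have := finite_maximalSpectrum (A := A) (B := B)
  have := Fintype.ofFinite (MaximalSpectrum B)
  -- the number of branches is the number of maximal ideals
  have hsurjκ : ∀ m : MaximalSpectrum B, Algebra.IsIntegral A B := fun _ => Algebra.IsIntegral.of_finite A B
  let e := normRedEquiv A (FractionRing A)
  let Φ := S7657.maxEquiv e.symm
  let N := Fintype.card (MaximalSpectrum B)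
  have hbr : Brnch.numBranches A = (N : ℕ∞) := by
    rw [Brnch.numBranches, if_pos (minimalPrimes.finite_of_isNoetherianRing A), ENat.card_congr Φ,
      ENat.card_eq_coe_fintype_card]
  have hle := length_pi_le (A := A) (B := B)
  rw [show Module.length A (B ⧸ LinearMap.range (Algebra.linearMap A B)) + 1 = (N : ℕ∞) from heq.trans hbr,
    Module.length_pi_of_fintype] at hle
  have hpos : ∀ m : MaximalSpectrum B, 1 ≤ Module.length A (B ⧸ m.asIdeal) := fun m => by
    have := m.isMaximal
    have : Nontrivial (B ⧸ m.asIdeal) := Ideal.Quotient.nontrivial_iff.2 m.isMaximal.ne_top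
    exact Order.one_le_iff_pos.2 Module.length_pos
  have hone : ∀ m : MaximalSpectrum B, Module.length A (B ⧸ m.asIdeal) = 1 := by
    intro m
    refine le_antisymm ?_ (hpos m)
    by_contra hc
    rw [not_le] at hc
    have h2 : (∑ i : MaximalSpectrum B, (1 : ℕ∞)) + 1 ≤
        ∑ i : MaximalSpectrum B, Module.length A (B ⧸ i.asIdeal) := by
      rw [← Finset.add_sum_erase _ _ (Finset.mem_univ m), ← Finset.add_sum_erase _ _ (Finset.mem_univ m),
        add_right_comm]
      exact add_le_add (Order.add_one_le_of_lt hc) (Finset.sum_le_sum fun i _ => hpos i)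
    have h3 := h2.trans hle
    simp only [Finset.sum_const, Finset.card_univ, nsmul_one] at h3
    exact absurd h3 (by exact_mod_cast Nat.not_succ_le_self N)
  have hsurj : ∀ (m : MaximalSpectrum B) (b : B), ∃ a : A, b - algebraMap A B a ∈ m.asIdeal := by
    intro m b
    have := m.isMaximal
    obtain ⟨a, ha⟩ := surjective_of_length_le_one ((m.asIdeal.mkQ.restrictScalars A).comp (Algebra.linearMap A B))
      (fun h => m.isMaximal.ne_top ((Ideal.eq_top_iff_one _).2 (by
        rw [← map_one (algebraMap A B)]; exact (Submodule.Quotient.mk_eq_zero _).1 h))) (hone m).le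
      (Submodule.Quotient.mk b)
    exact ⟨a, (Submodule.Quotient.eq _).1 ha.symm⟩
  refine ⟨hbr.trans ENat.card_eq_coe_fintype_card.symm, fun m => ?_, hsurj, fun a' ha' => ?_⟩
  · have := m.isMaximal
    obtain ⟨hdom, hicl⟩ := hloc ⟨m.asIdeal, inferInstance⟩
    let L := Localization.AtPrime m.asIdeal
    have : IsDomain L := hdom
    have : IsIntegrallyClosed L := hicl
    have : Algebra.IsIntegral A B := Algebra.IsIntegral.of_finite A B
    have : Ring.KrullDimLE 1 A := Ring.krullDimLE_iff.2 hdim.le
    have : IsNoetherianRing L := IsLocalization.isNoetherianRing m.asIdeal.primeCompl L inferInstance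
    have hmA : m.asIdeal.comap (algebraMap A B) = maximalIdeal A :=
      IsLocalRing.eq_maximalIdeal (Ideal.isMaximal_comap_of_isIntegral_of_isMaximal m.asIdeal)
    obtain ⟨d, hdm, hd⟩ := exists_regular A hdim
    have hdne : algebraMap B L (algebraMap A B d) ≠ 0 := fun h => by
      obtain ⟨u, hu⟩ := (IsLocalization.map_eq_zero_iff m.asIdeal.primeCompl L _).1 h
      refine u.2 ?_
      have h1 : (((u : B) : FractionRing A)) * algebraMap A (FractionRing A) d = 0 :=
        congrArg Subtype.val hu
      rw [((IsLocalization.map_units (FractionRing A) ⟨d, hd⟩).mul_left_eq_zero)] at h1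
      rw [show (u : B) = 0 from Subtype.ext h1]
      exact zero_mem _
    have hdP : algebraMap B L (algebraMap A B d) ∈ maximalIdeal L :=
      (IsLocalization.AtPrime.to_map_mem_maximal_iff L m.asIdeal _).2 (hmA.ge hdm)
    have hnf : ¬ IsField L := fun hF => hdne (by
      rw [IsLocalRing.isField_iff_maximalIdeal_eq.1 hF] at hdP
      simpa using hdP)
    refine ⟨hdom, ((IsDiscreteValuationRing.TFAE L hnf).out 0 3 (a := IsDiscreteValuationRing L)
      (b := IsIntegrallyClosed L ∧ ∃! P : Ideal L, P ≠ ⊥ ∧ P.IsPrime)).2 ⟨hicl, maximalIdeal L,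
      ⟨fun h => hdne (by simpa [h] using hdP), inferInstance⟩, ?_⟩⟩
    rintro P ⟨hP0, hP⟩
    refine IsLocalRing.eq_maximalIdeal ?_
    let Q := P.comap (algebraMap B L)
    let Q₀ := (⊥ : Ideal L).comap (algebraMap B L)
    have : Q₀.IsPrime := Ideal.comap_isPrime _ _
    have : Q.IsPrime := Ideal.comap_isPrime _ _
    have hlt : Q₀ < Q := by
      refine lt_of_le_of_ne (Ideal.comap_mono bot_le) fun h => hP0 ?_
      rw [← IsLocalization.map_comap m.asIdeal.primeCompl L P]
      exact (congrArg (Ideal.map (algebraMap B L)) h.symm).trans (IsLocalization.map_comap m.asIdeal.primeCompl L ⊥)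
    have hlt' : Q₀.comap (algebraMap A B) < Q.comap (algebraMap A B) := Ideal.IsIntegral.comap_lt_comap hlt
    have hQm : (Q.comap (algebraMap A B)).IsMaximal :=
      (Ring.krullDimLE_one_iff.1 inferInstance _ (Ideal.comap_isPrime _ _)).resolve_left fun h =>
        absurd (h.2 ⟨Ideal.comap_isPrime _ _, bot_le⟩ hlt'.le) (not_le_of_gt hlt')
    have hQmax : Q.IsMaximal := Ideal.IsIntegral.isMaximal_of_isMaximal_comap Q hQm
    have hQm' : Q = m.asIdeal := hQmax.eq_of_le m.isMaximal.ne_top fun x hx => by
      by_contra hxm
      exact hP.ne_top (Ideal.eq_top_of_isUnit_mem _ hx (IsLocalization.map_units L (⟨x, hxm⟩ : m.asIdeal.primeCompl)))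
    have hPmax : P = maximalIdeal L := by
      rw [← IsLocalization.map_comap m.asIdeal.primeCompl L P]
      exact (congrArg (Ideal.map (algebraMap B L)) hQm').trans (IsLocalization.AtPrime.map_eq_maximalIdeal m.asIdeal L)
    exact hPmax ▸ IsLocalRing.maximalIdeal.isMaximal L
  · obtain ⟨a, ha⟩ := ha'
    let P := (m : MaximalSpectrum B) → B ⧸ m.asIdeal
    let g := (modMax (A := A) (B := B)).comp (Algebra.linearMap A B)
    have hP : Module.length A P = (N : ℕ∞) := by
      rw [Module.length_pi_of_fintype]; simp only [hone, Finset.sum_const, Finset.card_univ, nsmul_one]; rfl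
    have hcok : Module.length A (B ⧸ R) ≤ Module.length A (P ⧸ LinearMap.range g) := by
      have h1 := Module.length_eq_add_of_exact (LinearMap.range g).subtype (LinearMap.range g).mkQ
        (LinearMap.range g).injective_subtype (LinearMap.range g).mkQ_surjective
        (LinearMap.exact_subtype_mkQ _)
      rw [hP, ← hbr, ← heq, add_comm (Module.length A (LinearMap.range g))] at h1
      exact (ENat.add_le_add_iff_right ENat.one_ne_top).1
        (h1.le.trans (add_le_add le_rfl (length_range_le_one (A := A) (B := B))))
    have hinj : Function.Injective (cokMap (A := A) (B := B)) := by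
      have h1 := Module.length_eq_add_of_exact (LinearMap.ker (cokMap (A := A) (B := B))).subtype
        (cokMap (A := A) (B := B)) (Submodule.injective_subtype _) cokMap_surjective
        (LinearMap.exact_subtype_ker_map _)
      rw [← LinearMap.ker_eq_bot, ← Submodule.subsingleton_iff_eq_bot, ← Module.length_eq_zero_iff (R := A)]
      have hne : Module.length A (P ⧸ LinearMap.range g) ≠ ⊤ :=
        ne_top_of_le_ne_top hδ.ne (Module.length_le_of_surjective _ cokMap_surjective)
      have h2 := h1.ge.trans hcok
      exact le_antisymm ((ENat.add_le_add_iff_right hne).1 (h2.trans (zero_add _).ge)) zero_le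
    have h0 : cokMap (A := A) (B := B) (Submodule.Quotient.mk a') = 0 := by
      show Submodule.Quotient.mk (modMax a') = 0
      rw [Submodule.Quotient.mk_eq_zero]
      exact ⟨a, funext fun m => ((Submodule.Quotient.eq _).2 (ha m)).symm⟩
    have h5 := (Submodule.Quotient.mk_eq_zero _).1 (hinj (h0.trans (map_zero _).symm))
    exact h5

end Groth.Agent.Multicross24
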